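import Mathlib
import Cfsg.Prelude.Def_Classical
import Cfsg.Agent.Lib.Helper14.OCls.Defs

/-!
# Prime graphs of `PΩ_{2n+1}(q)` and `PSp_{2n}(q)` coincide (S2474): package interface

Every `Pkg...` below is a `Prop`; a package is delivered as a theorem whose type is that `Prop`.
`q = Fintype.card F` is odd, `p` is the characteristic, `k` is the order of `q` modulo the odd
prime `r` (or `s`), and `Eta k ηk` says `ηk = η(k)` (`k` if `k` is odd, `k / 2` if `k` is even).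
-/

set_option autoImplicit false

namespace Cfsg.Agent.Lib.Helper8.PG

open Matrix Polynomial

universe u

/-- `ηk = η(k)`: `k` for odd `k`, `k / 2` for even `k`. -/
def Eta (k ηk : ℕ) : Prop := (Odd k ∧ ηk = k) ∨ (Even k ∧ 2 * ηk = k)

/-- The index type of the odd-dimensional form `quadFormOdd n`. -/
abbrev OI (n : ℕ) : Type := Unit ⊕ (Fin n ⊕ Fin n)

/-- There is an isometry (as a matrix) of `quadFormOdd n` of exact order `N`. -/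
def OHas (n : ℕ) (F : Type u) [Field F] (N : ℕ) : Prop :=
  ∃ g : Matrix (OI n) (OI n) F,
    (∀ v, Cfsg.quadFormOdd n F (g *ᵥ v) = Cfsg.quadFormOdd n F v) ∧ ∀ j : ℕ, g ^ j = 1 ↔ N ∣ j

/-- `Ω_{2n+1}(F)` has an element of order `N`. -/
def OmHas (n : ℕ) (F : Type u) [Field F] (N : ℕ) : Prop :=
  ∃ g : ↥(Cfsg.isometryGroup F (Cfsg.quadFormOdd n F)),
    g ∈ Cfsg.Omega F (Cfsg.quadFormOdd n F) ∧ orderOf g = N

/-- `Sp_{2n}(F)` has an element of exact order `N`. -/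
def SpHas (n : ℕ) (F : Type u) [Field F] (N : ℕ) : Prop :=
  ∃ S : Matrix.symplecticGroup (Fin n) F, ∀ j : ℕ, S ^ j = 1 ↔ N ∣ j

/-- `Sp_{2n}(F)` has an element whose image in `PSp_{2n}(F)` has order `2 s` (`s` an odd prime):
`S ^ (2 s) = ± 1`, `S ^ 2 ≠ ± 1`, `S ^ s ≠ ± 1` (as matrices). -/
def SpHas2 (n : ℕ) (F : Type u) [Field F] (s : ℕ) : Prop :=
  ∃ S : Matrix.symplecticGroup (Fin n) F,
    (S.1 ^ (2 * s) = 1 ∨ S.1 ^ (2 * s) = -1) ∧ ¬ (S.1 ^ 2 = 1 ∨ S.1 ^ 2 = -1) ∧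
      ¬ (S.1 ^ s = 1 ∨ S.1 ^ s = -1)

/-- A "block": a quadratic space of dimension `d` with non-degenerate polar form and an isometry
`M` with `M ^ j = 1 ↔ P j`. -/
def Blk (F : Type u) [Field F] (d : ℕ) (P : ℕ → Prop) : Prop :=
  ∃ (κ : Type) (_ : Fintype κ) (_ : DecidableEq κ) (Q : QuadraticForm F (κ → F))
    (M : Matrix κ κ F), Fintype.card κ = d ∧ (QuadraticMap.polarBilin Q).Nondegenerate ∧
      (∀ v, Q (M *ᵥ v) = Q v) ∧ ∀ j : ℕ, M ^ j = 1 ↔ P j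

/-- The adjacency criterion for `2` and an odd prime `s ≠ p` (both groups). -/
def Crit2 (q n k ηk : ℕ) : Prop :=
  ηk ≤ n - 1 ∨ (ηk = n ∧ ((q % 4 = 1 ∧ Odd k) ∨ (q % 4 = 3 ∧ Even k ∧ Odd n)))

/-! ## Bridges between the groups and matrices -/

/-- [BRIDGE] The centre of `Ω_{2n+1}(q)` is trivial: element orders of `PΩ` and `Ω` agree. -/
def PkgBridge : Prop :=
  ∀ {F : Type u} [Field F] [Fintype F] (_ : Odd (Fintype.card F)) (n : ℕ) (_ : 3 ≤ n) (N : ℕ),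
    N ∈ Set.range (orderOf : Cfsg.POmega F (Cfsg.quadFormOdd n F) → ℕ) ↔ OmHas n F N

/-- [SQ] Squares of isometries lie in `Ω`. -/
def PkgSq : Prop :=
  ∀ {F : Type u} [Field F] [Fintype F] (_ : Odd (Fintype.card F)) (n : ℕ)
    (h : ↥(Cfsg.isometryGroup F (Cfsg.quadFormOdd n F))),
    h * h ∈ Cfsg.Omega F (Cfsg.quadFormOdd n F)

/-- Matrices versus group elements. -/
def Glue : Prop :=
  ∀ {F : Type u} [Field F] [Fintype F] (_ : Odd (Fintype.card F)) (n : ℕ) (N : ℕ),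
    (Odd N → OHas n F N → OmHas n F N) ∧ (OmHas n F N → OHas n F N) ∧
      ((∃ h : Matrix (OI n) (OI n) F,
          (∀ v, Cfsg.quadFormOdd n F (h *ᵥ v) = Cfsg.quadFormOdd n F v) ∧
            ∀ j : ℕ, (h * h) ^ j = 1 ↔ N ∣ j) → OmHas n F N)

/-- [GLUE] -/
def PkgGlue : Prop := PkgSq.{u} → Glue.{u}

/-- [PSP2] Elements of order `2 s` in `PSp_{2n}(q)` (centre of `Sp` is `± 1`). -/
def PkgPSp2 : Prop :=
  ∀ {F : Type u} [Field F] [Fintype F] (_ : Odd (Fintype.card F)) (n : ℕ) (_ : 1 ≤ n) (s : ℕ)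
    (_ : s.Prime) (_ : s ≠ 2),
    (2 * s ∈ Set.range (orderOf : Cfsg.PSp n F → ℕ)) ↔ SpHas2 n F s

/-! ## Generic tools -/

/-- [ORD] Two semisimple matrices whose characteristic polynomials differ by a power of `X - 1`
have the same order. -/
def PkgOrd : Prop :=
  ∀ {F : Type u} [Field F] {ι₁ ι₂ : Type} [Fintype ι₁] [DecidableEq ι₁] [Fintype ι₂]
    [DecidableEq ι₂] (M₁ : Matrix ι₁ ι₁ F) (M₂ : Matrix ι₂ ι₂ F) (N₁ N₂ : ℕ)
    (_ : (N₁ : F) ≠ 0) (_ : (N₂ : F) ≠ 0) (_ : M₁ ^ N₁ = 1) (_ : M₂ ^ N₂ = 1) (a b : ℕ)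
    (f₀ : F[X]) (_ : M₁.charpoly = (X - C 1) ^ a * f₀) (_ : M₂.charpoly = (X - C 1) ^ b * f₀)
    (j : ℕ), M₁ ^ j = 1 ↔ M₂ ^ j = 1

/-- [ORD4] `M ^ (2 s) = -1`, `M ^ 2 ≠ ± 1`: then `M ^ 2` has order `2 s`. -/
def PkgOrd4 : Prop :=
  ∀ {F : Type u} [Field F] (_ : (2 : F) ≠ 0) {ι : Type} [Fintype ι] [DecidableEq ι]
    (M : Matrix ι ι F) (s : ℕ) (_ : s.Prime) (_ : s ≠ 2) (_ : M ^ (2 * s) = -1)
    (_ : ¬ (M ^ 2 = 1 ∨ M ^ 2 = -1)) (j : ℕ), M ^ (2 * j) = 1 ↔ 2 * s ∣ j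

/-- [GENEX] A block of dimension `2 n + 1` can be realised inside the isometry group of
`quadFormOdd n` (classification of odd-dimensional forms up to similarity + transport). -/
def PkgGenEx : Prop :=
  ∀ {F : Type u} [Field F] [Fintype F] (_ : Odd (Fintype.card F)) (n : ℕ) (P : ℕ → Prop),
    Blk F (2 * n + 1) P →
      ∃ g : Matrix (OI n) (OI n) F,
        (∀ v, Cfsg.quadFormOdd n F (g *ᵥ v) = Cfsg.quadFormOdd n F v) ∧ ∀ j : ℕ, g ^ j = 1 ↔ P j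

/-- [SUM] Orthogonal sum of two blocks. -/
def PkgSum : Prop :=
  ∀ {F : Type u} [Field F] (d₁ d₂ : ℕ) (P₁ P₂ : ℕ → Prop),
    Blk F d₁ P₁ → Blk F d₂ P₂ → Blk F (d₁ + d₂) (fun j => P₁ j ∧ P₂ j)

/-- [ONE] The line `x²` with the identity. -/
def PkgOne : Prop :=
  ∀ {F : Type u} [Field F] (_ : (2 : F) ≠ 0), Blk F 1 (fun _ => True)

/-- [ROT] The plane `x² + y²` with the rotation of order `4`. -/
def PkgRot : Prop :=
  ∀ {F : Type u} [Field F] (_ : (2 : F) ≠ 0), Blk F 2 (fun j => 4 ∣ j)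

/-- [UNI] A `3`-dimensional space with a unipotent isometry of order `p`. -/
def PkgUni : Prop :=
  ∀ {F : Type u} [Field F] (p : ℕ) [Fact p.Prime] [CharP F p] (_ : (2 : F) ≠ 0),
    Blk F 3 (fun j => p ∣ j)

/-- [BLK] If `η(k) ≤ m` there is a block of dimension at most `2 m` with an isometry of order
`r`. -/
def PkgBlk : Prop :=
  ∀ {F : Type u} [Field F] [Fintype F] (_ : Odd (Fintype.card F)) (p : ℕ) [Fact p.Prime]
    [CharP F p] (r k ηk m : ℕ) (_ : r.Prime) (_ : r ≠ 2) (_ : r ≠ p)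
    (_ : k = orderOf ((Fintype.card F : ℕ) : ZMod r)) (_ : Eta k ηk) (_ : ηk ≤ m),
    ∃ d : ℕ, d ≤ 2 * m ∧ Blk F d (fun j => r ∣ j)

/-! ## Case A: two odd primes different from `p` (transfer `O ↔ Sp`) -/

/-- An isometry of odd order `N` prime to `p` gives a symplectic matrix of order `N`. -/
def OtoSp : Prop :=
  ∀ {F : Type u} [Field F] [Fintype F] (_ : Odd (Fintype.card F)) (p : ℕ) [Fact p.Prime]
    [CharP F p] (n N : ℕ) (_ : Odd N) (_ : N.Coprime p), OHas n F N → SpHas n F N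

/-- [OTOSP] -/
def PkgOtoSp : Prop := PkgOrd.{u} → OtoSp.{u}

/-- A symplectic matrix of odd order `N` prime to `p` gives a block of dimension at most `2 n`
with an isometry of order `N`. -/
def SptoBlk : Prop :=
  ∀ {F : Type u} [Field F] [Fintype F] (_ : Odd (Fintype.card F)) (p : ℕ) [Fact p.Prime]
    [CharP F p] (n N : ℕ) (_ : Odd N) (_ : N.Coprime p), SpHas n F N →
      ∃ d : ℕ, d ≤ 2 * n ∧ Blk F d (fun j => N ∣ j)

/-- [SPTOBLK] -/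
def PkgSptoBlk : Prop := PkgOrd.{u} → SptoBlk.{u}

/-! ## Case B: `p` and an odd prime `r ≠ p` -/

/-- [ORPNEC] An isometry of order `r p` forces `η(k) ≤ n - 1`. -/
def PkgORPnec : Prop :=
  ∀ {F : Type u} [Field F] [Fintype F] (_ : Odd (Fintype.card F)) (p : ℕ) [Fact p.Prime]
    [CharP F p] (n : ℕ) (_ : 2 ≤ n) (r k ηk : ℕ) (_ : r.Prime) (_ : r ≠ 2) (_ : r ≠ p)
    (_ : k = orderOf ((Fintype.card F : ℕ) : ZMod r)) (_ : Eta k ηk),
    OHas n F (r * p) → ηk ≤ n - 1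

/-! ## Case C: `2` and `p` -/

/-- [SP2P] `PSp_{2n}(q)` has an element of order `2 p`. -/
def PkgSp2p : Prop :=
  ∀ {F : Type u} [Field F] [Fintype F] (_ : Odd (Fintype.card F)) (p : ℕ) [Fact p.Prime]
    [CharP F p] (n : ℕ) (_ : 2 ≤ n), SpHas2 n F p

/-! ## Case D: `2` and an odd prime `s ≠ p` -/

/-- [SPINVNEC] `S ^ (2 s) = 1`, `S ^ 2 ≠ ± 1`, `S ^ s ≠ ± 1` in `Sp_{2n}(q)` forces
`η(k) ≤ n - 1`. -/
def PkgSpInvNec : Prop :=
  ∀ {F : Type u} [Field F] [Fintype F] (_ : Odd (Fintype.card F)) (p : ℕ) [Fact p.Prime]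
    [CharP F p] (n s k ηk : ℕ) (_ : s.Prime) (_ : s ≠ 2) (_ : s ≠ p)
    (_ : k = orderOf ((Fintype.card F : ℕ) : ZMod s)) (_ : Eta k ηk)
    (S : Matrix.symplecticGroup (Fin n) F) (_ : S.1 ^ (2 * s) = 1)
    (_ : ¬ (S.1 ^ 2 = 1 ∨ S.1 ^ 2 = -1)) (_ : ¬ (S.1 ^ s = 1 ∨ S.1 ^ s = -1)), ηk ≤ n - 1

/-- [SPJ] A symplectic matrix commuting with a `j = S ^ e`, `j² = -1`, is an isometry of the
quadratic form `v ↦ B(v, j v)`. -/
def PkgSpJ : Prop :=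
  ∀ {F : Type u} [Field F] [Fintype F] (_ : Odd (Fintype.card F)) (n : ℕ)
    (S : Matrix.symplecticGroup (Fin n) F) (e : ℕ) (_ : S.1 ^ e * S.1 ^ e = -1),
    Blk F (2 * n) (fun j => S.1 ^ j = 1)

/-- [FIXA] An isometry `t ≠ 1` of `quadFormOdd n` with `t ^ s = 1` and `n ≤ η(k)`: then
`η(k) = n` and `1` is a simple root of the characteristic polynomial. -/
def PkgFixA : Prop :=
  ∀ {F : Type u} [Field F] [Fintype F] (_ : Odd (Fintype.card F)) (p : ℕ) [Fact p.Prime]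
    [CharP F p] (n s k ηk : ℕ) (_ : s.Prime) (_ : s ≠ 2) (_ : s ≠ p)
    (_ : k = orderOf ((Fintype.card F : ℕ) : ZMod s)) (_ : Eta k ηk)
    (t : Matrix (OI n) (OI n) F)
    (_ : ∀ v, Cfsg.quadFormOdd n F (t *ᵥ v) = Cfsg.quadFormOdd n F v) (_ : t ^ s = 1)
    (_ : t ≠ 1) (_ : n ≤ ηk), ηk = n ∧ t.charpoly.rootMultiplicity 1 = 1

/-- [FIXB] An isometry of order prime to the characteristic for which `1` is a simple root of the
characteristic polynomial: the fixed space is a non-singular line. -/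
def PkgFixB : Prop :=
  ∀ {F : Type u} [Field F] (_ : (2 : F) ≠ 0) {ι : Type} [Fintype ι] [DecidableEq ι]
    (Q : QuadraticForm F (ι → F)) (_ : (QuadraticMap.polarBilin Q).Nondegenerate)
    (t : Matrix ι ι F) (_ : ∀ v, Q (t *ᵥ v) = Q v) (N : ℕ) (_ : (N : F) ≠ 0) (_ : t ^ N = 1)
    (_ : t.charpoly.rootMultiplicity 1 = 1),
    ∃ v₀ : ι → F, Q v₀ ≠ 0 ∧ t *ᵥ v₀ = v₀ ∧ ∀ w, t *ᵥ w = w → ∃ c : F, w = c • v₀

/-- [ZSTR] An involution `z` of determinant `1` commuting with `t`, when every non-trivial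
isometry with `s`-th power one has a non-singular line as fixed space: `z` is `1` on the fixed
line of `t` and `-1` on its orthogonal complement. -/
def PkgZStr : Prop :=
  ∀ {F : Type u} [Field F] (_ : (2 : F) ≠ 0) {ι : Type} [Fintype ι] [DecidableEq ι]
    (Q : QuadraticForm F (ι → F)) (_ : (QuadraticMap.polarBilin Q).Nondegenerate)
    (_ : Odd (Fintype.card ι)) (_ : 3 ≤ Fintype.card ι) (s : ℕ)
    (_ : ∀ t' : Matrix ι ι F, (∀ v, Q (t' *ᵥ v) = Q v) → t' ^ s = 1 → t' ≠ 1 →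
      ∃ v₁ : ι → F, Q v₁ ≠ 0 ∧ t' *ᵥ v₁ = v₁ ∧ ∀ w, t' *ᵥ w = w → ∃ c : F, w = c • v₁)
    (z t : Matrix ι ι F) (_ : ∀ v, Q (z *ᵥ v) = Q v) (_ : ∀ v, Q (t *ᵥ v) = Q v)
    (_ : z * z = 1) (_ : z ≠ 1) (_ : z.det = 1) (_ : z * t = t * z) (_ : t ^ s = 1) (_ : t ≠ 1)
    (v₀ : ι → F) (_ : Q v₀ ≠ 0) (_ : t *ᵥ v₀ = v₀),
    z *ᵥ v₀ = v₀ ∧ ∀ w, QuadraticMap.polar Q v₀ w = 0 → z *ᵥ w = -w

/-- [NEGREFL] Spinor norm of `-(reflection along v₀)`: if it lies in `Ω` then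
`(-1) ^ n * Q v₀` is a square. -/
def PkgNegRefl : Prop :=
  ∀ {F : Type u} [Field F] [Fintype F] (_ : Odd (Fintype.card F)) (n : ℕ)
    (z : ↥(Cfsg.isometryGroup F (Cfsg.quadFormOdd n F)))
    (_ : z ∈ Cfsg.Omega F (Cfsg.quadFormOdd n F)) (v₀ : OI n → F)
    (_ : Cfsg.quadFormOdd n F v₀ ≠ 0)
    (_ : ((z : Matrix.GeneralLinearGroup (OI n) F) : Matrix (OI n) (OI n) F) *ᵥ v₀ = v₀)
    (_ : ∀ w, QuadraticMap.polar (Cfsg.quadFormOdd n F) v₀ w = 0 →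
      ((z : Matrix.GeneralLinearGroup (OI n) F) : Matrix (OI n) (OI n) F) *ᵥ w = -w),
    IsSquare ((-1 : F) ^ n * Cfsg.quadFormOdd n F v₀)

/-- [LEVEL] The number of solutions of `quadFormOdd n v = c`, `c ≠ 0`. -/
def PkgLevel : Prop :=
  ∀ {F : Type u} [Field F] [Fintype F] (_ : Odd (Fintype.card F)) (n : ℕ) (c : F) (_ : c ≠ 0),
    (IsSquare c → (Nat.card {v : OI n → F // Cfsg.quadFormOdd n F v = c} : ℤ) =
        (Fintype.card F : ℤ) ^ (2 * n) + (Fintype.card F : ℤ) ^ n) ∧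
      (¬ IsSquare c → (Nat.card {v : OI n → F // Cfsg.quadFormOdd n F v = c} : ℤ) =
        (Fintype.card F : ℤ) ^ (2 * n) - (Fintype.card F : ℤ) ^ n)

/-- The fixed point congruence for the level set through the fixed line. -/
def Cong : Prop :=
  ∀ {F : Type u} [Field F] [Fintype F] (_ : Odd (Fintype.card F)) (n s : ℕ) (_ : s.Prime)
    (t : Matrix (OI n) (OI n) F)
    (_ : ∀ v, Cfsg.quadFormOdd n F (t *ᵥ v) = Cfsg.quadFormOdd n F v) (_ : t ^ s = 1)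
    (v₀ : OI n → F) (_ : Cfsg.quadFormOdd n F v₀ ≠ 0) (_ : t *ᵥ v₀ = v₀)
    (_ : ∀ w, t *ᵥ w = w → ∃ c : F, w = c • v₀),
    (IsSquare (Cfsg.quadFormOdd n F v₀) →
        (Fintype.card F : ℤ) ^ (2 * n) + (Fintype.card F : ℤ) ^ n ≡ 2 [ZMOD (s : ℤ)]) ∧
      (¬ IsSquare (Cfsg.quadFormOdd n F v₀) →
        (Fintype.card F : ℤ) ^ (2 * n) - (Fintype.card F : ℤ) ^ n ≡ 2 [ZMOD (s : ℤ)])

/-- [CONG] (uses the landed `Cfsg.Agent.Lib.Helper85.OCls.pkgFree` with `Qf v = Q v - c`). -/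
def PkgCong : Prop := PkgLevel.{u} → Cong.{u}

/-- [ARITH2] Pure arithmetic. -/
def PkgArith2 : Prop :=
  ∀ (q s k n : ℕ) (A : Prop), s.Prime → s ≠ 2 → ¬ s ∣ q → Odd q → k = orderOf (q : ZMod s) →
    Eta k n → (A → (q : ℤ) ^ (2 * n) + (q : ℤ) ^ n ≡ 2 [ZMOD (s : ℤ)]) →
    (¬ A → (q : ℤ) ^ (2 * n) - (q : ℤ) ^ n ≡ 2 [ZMOD (s : ℤ)]) →
    (A ↔ (Even n ∨ q % 4 = 1)) → (q % 4 = 1 ∧ Odd k) ∨ (q % 4 = 3 ∧ Even k ∧ Odd n)

/-- [SQSIGN] -/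
def PkgSqSign : Prop :=
  ∀ {F : Type u} [Field F] [Fintype F] (_ : Odd (Fintype.card F)) (n : ℕ) (c : F) (_ : c ≠ 0),
    IsSquare ((-1 : F) ^ n * c) ↔ (IsSquare c ↔ (Even n ∨ Fintype.card F % 4 = 1))

/-- Necessity on the orthogonal side. -/
def D2 : Prop :=
  ∀ {F : Type u} [Field F] [Fintype F] (_ : Odd (Fintype.card F)) (p : ℕ) [Fact p.Prime]
    [CharP F p] (n : ℕ) (_ : 1 ≤ n) (s k ηk : ℕ) (_ : s.Prime) (_ : s ≠ 2) (_ : s ≠ p)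
    (_ : k = orderOf ((Fintype.card F : ℕ) : ZMod s)) (_ : Eta k ηk),
    OmHas n F (2 * s) → Crit2 (Fintype.card F) n k ηk

/-- [D2] -/
def PkgD2 : Prop :=
  PkgFixA.{u} → PkgFixB.{u} → PkgZStr.{u} → PkgNegRefl.{u} → Cong.{u} → PkgArith2 →
    PkgSqSign.{u} → D2.{u}

/-- [SPA] `η(k) ≤ n - 1`: `S = S₁ ⊕ (-1)` on a hyperbolic plane. -/
def PkgSpA : Prop :=
  ∀ {F : Type u} [Field F] [Fintype F] (_ : Odd (Fintype.card F)) (p : ℕ) [Fact p.Prime]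
    [CharP F p] (n s k ηk : ℕ) (_ : 2 ≤ n) (_ : s.Prime) (_ : s ≠ 2) (_ : s ≠ p)
    (_ : k = orderOf ((Fintype.card F : ℕ) : ZMod s)) (_ : Eta k ηk) (_ : ηk ≤ n - 1),
    SpHas2 n F s

/-- [SPN1] `q ≡ 1 (mod 4)`, `k ≤ n`: `S = diag(i A, (i A)⁻ᵀ)`, `A ∈ GL_n(q)` of order `s`. -/
def PkgSpN1 : Prop :=
  ∀ {F : Type u} [Field F] [Fintype F] (p : ℕ) [Fact p.Prime] [CharP F p] (n s k : ℕ)
    (_ : s.Prime) (_ : s ≠ 2) (_ : s ≠ p) (_ : k = orderOf ((Fintype.card F : ℕ) : ZMod s))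
    (_ : k ≤ n) (_ : Fintype.card F % 4 = 1), SpHas2 n F s

/-- An irreducible self-dual factor of `X ^ (2 s) + 1` of degree `2 n`. -/
def Poly3 : Prop :=
  ∀ {F : Type u} [Field F] [Fintype F] (p : ℕ) [Fact p.Prime] [CharP F p] (n s : ℕ)
    (_ : s.Prime) (_ : s ≠ 2) (_ : s ≠ p)
    (_ : 2 * n = orderOf ((Fintype.card F : ℕ) : ZMod s)) (_ : Odd n)
    (_ : Fintype.card F % 4 = 3),
    ∃ f : F[X], f.Monic ∧ Irreducible f ∧ f.natDegree = 2 * n ∧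
      Cfsg.Agent.Lib.Helper40.DualPoly.dual (RingHom.id F) f = f ∧ f ∣ X ^ (2 * s) + 1

/-- [POLY3] -/
def PkgPoly3 : Prop := Poly3.{u}

/-- `q ≡ 3 (mod 4)`, `n` odd, `k = 2 n`: an irreducible element of order `4 s`. -/
def SpN3 : Prop :=
  ∀ {F : Type u} [Field F] [Fintype F] (p : ℕ) [Fact p.Prime] [CharP F p] (n s : ℕ)
    (_ : 2 ≤ n) (_ : s.Prime) (_ : s ≠ 2) (_ : s ≠ p)
    (_ : 2 * n = orderOf ((Fintype.card F : ℕ) : ZMod s)) (_ : Odd n)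
    (_ : Fintype.card F % 4 = 3), SpHas2 n F s

/-- [SPN3] -/
def PkgSpN3 : Prop := Poly3.{u} → SpN3.{u}

end Cfsg.Agent.Lib.Helper8.PG
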