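import Mathlib
import Cfsg.Agent.Lib.Helper8.PG.Defs
import Cfsg.Agent.Lib.Helper40.PSpRP
import Cfsg.Agent.Lib.Helper40.PSpRS
import Cfsg.Agent.Lib.Helper14.OmegaInv

/-!
# Prime graphs of `PΩ_{2n+1}(q)` and `PSp_{2n}(q)` coincide: assembly from the packages
-/

set_option autoImplicit false

namespace Cfsg.Agent.Lib.Helper8.PG

open Matrix Polynomial

universe u

theorem blk_congr {F : Type u} [Field F] {d : ℕ} {P P' : ℕ → Prop} (h : Blk F d P)
    (hP : ∀ j, P j ↔ P' j) : Blk F d P' := by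
  obtain ⟨κ, i1, i2, Q, M, hc, hQ, hM, hj⟩ := h
  exact ⟨κ, i1, i2, Q, M, hc, hQ, hM, fun j => (hj j).trans (hP j)⟩

theorem blk_pad (hSum : PkgSum.{u}) (hOne : PkgOne.{u}) {F : Type u} [Field F]
    (h2 : (2 : F) ≠ 0) {d : ℕ} {P : ℕ → Prop} (h : Blk F d P) (e : ℕ) : Blk F (d + e) P := by
  induction e with
  | zero => exact h
  | succ e ih =>
    have h3 := hSum (d + e) 1 P (fun _ => True) ih (hOne h2)
    exact blk_congr h3 (fun j => ⟨fun h => h.1, fun h => ⟨h, trivial⟩⟩)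

theorem blk_real (hSum : PkgSum.{u}) (hOne : PkgOne.{u}) (hGen : PkgGenEx.{u}) {F : Type u}
    [Field F] [Fintype F] (hodd : Odd (Fintype.card F)) (h2 : (2 : F) ≠ 0) (n : ℕ) {d : ℕ}
    {P : ℕ → Prop} (h : Blk F d P) (hd : d ≤ 2 * n + 1) :
    ∃ g : Matrix (OI n) (OI n) F,
      (∀ v, Cfsg.quadFormOdd n F (g *ᵥ v) = Cfsg.quadFormOdd n F v) ∧
        ∀ j : ℕ, g ^ j = 1 ↔ P j := by
  have h' := blk_pad hSum hOne h2 h (2 * n + 1 - d)
  rw [Nat.add_sub_of_le hd] at h'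
  exact hGen hodd n P h'

theorem arith_2s (s j : ℕ) (hs : s.Prime) (hs2 : s ≠ 2) :
    (s ∣ 2 * j ∧ 4 ∣ 2 * j) ↔ 2 * s ∣ j := by
  have hcop : Nat.Coprime s 2 := (Nat.coprime_primes hs Nat.prime_two).mpr hs2
  constructor
  · rintro ⟨h1, h2⟩
    have h1' : s ∣ j := hcop.dvd_of_dvd_mul_left h1
    have h2' : 2 ∣ j := by
      have h3 : 2 * 2 ∣ 2 * j := h2
      exact Nat.dvd_of_mul_dvd_mul_left (by norm_num) h3
    exact hcop.symm.mul_dvd_of_dvd_of_dvd h2' h1'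
  · rintro ⟨c, rfl⟩
    exact ⟨⟨4 * c, by ring⟩, ⟨s * c, by ring⟩⟩

theorem exists_eta (k : ℕ) : ∃ ηk, Eta k ηk := by
  rcases Nat.even_or_odd k with he | ho
  · obtain ⟨c, hc⟩ := he
    exact ⟨c, Or.inr ⟨⟨c, hc⟩, by omega⟩⟩
  · exact ⟨k, Or.inl ⟨ho, rfl⟩⟩

section

variable (hBridge : PkgBridge.{u}) (hGlue : Glue.{u}) (hPSp2 : PkgPSp2.{u})
  (hOrd4 : PkgOrd4.{u}) (hGen : PkgGenEx.{u}) (hSum : PkgSum.{u}) (hOne : PkgOne.{u})
  (hRot : PkgRot.{u}) (hUni : PkgUni.{u}) (hBlk : PkgBlk.{u}) (hOtoSp : OtoSp.{u})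
  (hSptoBlk : SptoBlk.{u}) (hORPnec : PkgORPnec.{u}) (hSp2p : PkgSp2p.{u})
  (hSpInvNec : PkgSpInvNec.{u}) (hSpJ : PkgSpJ.{u}) (hD2 : D2.{u}) (hSpA : PkgSpA.{u})
  (hSpN1 : PkgSpN1.{u}) (hSpN3 : SpN3.{u})

include hGlue hGen hSum hOne hRot hBlk in
/-- `η(k) ≤ n - 1`: `Ω_{2n+1}(q)` has an element of order `2 s`. -/
theorem om_of_eta {F : Type u} [Field F] [Fintype F] (hodd : Odd (Fintype.card F)) (p : ℕ)
    [Fact p.Prime] [CharP F p] (n s k ηk : ℕ) (hn : 1 ≤ n) (hs : s.Prime) (hs2 : s ≠ 2)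
    (hsp : s ≠ p) (hk : k = orderOf ((Fintype.card F : ℕ) : ZMod s)) (hη : Eta k ηk)
    (hle : ηk ≤ n - 1) : OmHas n F (2 * s) := by
  have h2 := Cfsg.Agent.Lib.Helper14.two_ne_zero_of_card_odd hodd
  obtain ⟨d, hd, hB⟩ := hBlk hodd p s k ηk (n - 1) hs hs2 hsp hk hη hle
  have hB2 := hSum d 2 _ _ hB (hRot h2)
  obtain ⟨g, hg, hgj⟩ := blk_real hSum hOne hGen hodd h2 n hB2 (by omega)
  refine (hGlue hodd n (2 * s)).2.2 ⟨g, hg, fun j => ?_⟩
  rw [← pow_two, ← pow_mul, hgj]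
  exact arith_2s s j hs hs2

include hGlue hGen hSum hOne hRot hUni in
/-- `Ω_{2n+1}(q)` has an element of order `2 p`. -/
theorem om_two_p {F : Type u} [Field F] [Fintype F] (hodd : Odd (Fintype.card F)) (p : ℕ)
    [Fact p.Prime] [CharP F p] (hp2 : p ≠ 2) (n : ℕ) (hn : 2 ≤ n) : OmHas n F (2 * p) := by
  have h2 := Cfsg.Agent.Lib.Helper14.two_ne_zero_of_card_odd hodd
  have hB := hSum 2 3 _ _ (hRot h2) (hUni p h2)
  obtain ⟨g, hg, hgj⟩ := blk_real hSum hOne hGen hodd h2 n hB (by omega)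
  refine (hGlue hodd n (2 * p)).2.2 ⟨g, hg, fun j => ?_⟩
  rw [← pow_two, ← pow_mul, hgj]
  have h3 := arith_2s p j Fact.out hp2
  tauto

include hGen hSum hOne hUni hBlk in
/-- `η(k) ≤ n - 1`: there is an isometry of order `r p`. -/
theorem o_rp {F : Type u} [Field F] [Fintype F] (hodd : Odd (Fintype.card F)) (p : ℕ)
    [Fact p.Prime] [CharP F p] (n r k ηk : ℕ) (hn : 1 ≤ n) (hr : r.Prime) (hr2 : r ≠ 2)
    (hrp : r ≠ p) (hk : k = orderOf ((Fintype.card F : ℕ) : ZMod r)) (hη : Eta k ηk)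
    (hle : ηk ≤ n - 1) : OHas n F (r * p) := by
  have h2 := Cfsg.Agent.Lib.Helper14.two_ne_zero_of_card_odd hodd
  obtain ⟨d, hd, hB⟩ := hBlk hodd p r k ηk (n - 1) hr hr2 hrp hk hη hle
  have hB2 := hSum d 3 _ _ hB (hUni p h2)
  obtain ⟨g, hg, hgj⟩ := blk_real hSum hOne hGen hodd h2 n hB2 (by omega)
  refine ⟨g, hg, fun j => ?_⟩
  rw [hgj]
  have hcop : Nat.Coprime r p := (Nat.coprime_primes hr Fact.out).mpr hrp
  exact ⟨fun h => hcop.mul_dvd_of_dvd_of_dvd h.1 h.2,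
    fun h => ⟨(dvd_mul_right r p).trans h, (dvd_mul_left p r).trans h⟩⟩

include hBridge hGlue hGen hSum hOne hOtoSp hSptoBlk in
/-- Case A: odd order prime to `p`. -/
theorem caseA {F : Type u} [Field F] [Fintype F] (hodd : Odd (Fintype.card F)) (p : ℕ)
    [Fact p.Prime] [CharP F p] (n : ℕ) (hn : 3 ≤ n) (N : ℕ) (hN : Odd N) (hNp : N.Coprime p) :
    (N ∈ Set.range (orderOf : Cfsg.POmega F (Cfsg.quadFormOdd n F) → ℕ)) ↔
      (N ∈ Set.range (orderOf : Cfsg.PSp n F → ℕ)) := by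
  have h2 := Cfsg.Agent.Lib.Helper14.two_ne_zero_of_card_odd hodd
  have hsp := Cfsg.Agent.Lib.Helper40.PSpRS.psp_order_iff_sp (F := F) p n (by omega) N hN
  rw [hBridge hodd n hn N, Set.mem_range, hsp]
  constructor
  · intro h
    exact hOtoSp hodd p n N hN hNp ((hGlue hodd n N).2.1 h)
  · intro h
    obtain ⟨d, hd, hB⟩ := hSptoBlk hodd p n N hN hNp h
    obtain ⟨g, hg, hgj⟩ := blk_real hSum hOne hGen hodd h2 n hB (by omega)
    exact (hGlue hodd n N).1 hN ⟨g, hg, hgj⟩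

include hBridge hGlue hGen hSum hOne hUni hBlk hORPnec in
/-- Case B: `r p`. -/
theorem caseB {F : Type u} [Field F] [Fintype F] (hodd : Odd (Fintype.card F)) (p : ℕ)
    [Fact p.Prime] [CharP F p] (hp2 : p ≠ 2) (n : ℕ) (hn : 3 ≤ n) (r : ℕ) (hr : r.Prime)
    (hr2 : r ≠ 2) (hrp : r ≠ p) :
    (r * p ∈ Set.range (orderOf : Cfsg.POmega F (Cfsg.quadFormOdd n F) → ℕ)) ↔
      (r * p ∈ Set.range (orderOf : Cfsg.PSp n F → ℕ)) := by
  classical
  have hp : p.Prime := Fact.out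
  obtain ⟨k, hk⟩ : ∃ k, k = orderOf ((Fintype.card F : ℕ) : ZMod r) := ⟨_, rfl⟩
  obtain ⟨ηk, hη⟩ := exists_eta k
  have hpsp := Cfsg.Agent.Lib.Helper40.PSpRP.psp_rp_iff (F := F) p n (by omega) r hr hr2 hrp
    k ηk hk hη
  have hodd_rp : Odd (r * p) := (hr.odd_of_ne_two hr2).mul (hp.odd_of_ne_two hp2)
  rw [hBridge hodd n hn (r * p)]
  constructor
  · intro h
    have h1 := hORPnec hodd p n (by omega) r k ηk hr hr2 hrp hk hη ((hGlue hodd n _).2.1 h)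
    by_contra hcon
    have h3 := hpsp.mp hcon
    omega
  · intro h
    have h1 : ηk ≤ n - 1 := by
      by_contra hcon
      exact (hpsp.mpr (by omega)) h
    exact (hGlue hodd n _).1 hodd_rp
      (o_rp hGen hSum hOne hUni hBlk hodd p n r k ηk (by omega) hr hr2 hrp hk hη h1)

include hBridge hGlue hPSp2 hGen hSum hOne hRot hUni hSp2p in
/-- Case C: `2 p`. -/
theorem caseC {F : Type u} [Field F] [Fintype F] (hodd : Odd (Fintype.card F)) (p : ℕ)
    [Fact p.Prime] [CharP F p] (hp2 : p ≠ 2) (n : ℕ) (hn : 3 ≤ n) :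
    (2 * p ∈ Set.range (orderOf : Cfsg.POmega F (Cfsg.quadFormOdd n F) → ℕ)) ∧
      (2 * p ∈ Set.range (orderOf : Cfsg.PSp n F → ℕ)) :=
  ⟨(hBridge hodd n hn _).mpr (om_two_p hGlue hGen hSum hOne hRot hUni hodd p hp2 n (by omega)),
    (hPSp2 hodd n (by omega) p Fact.out hp2).mpr (hSp2p hodd p n (by omega))⟩

include hBridge hGlue hPSp2 hOrd4 hGen hSum hOne hRot hBlk hSpInvNec hSpJ hD2 hSpA hSpN1
  hSpN3 in
/-- Case D: `2 s`. -/
theorem caseD {F : Type u} [Field F] [Fintype F] (hodd : Odd (Fintype.card F)) (p : ℕ)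
    [Fact p.Prime] [CharP F p] (n : ℕ) (hn : 3 ≤ n) (s : ℕ) (hs : s.Prime) (hs2 : s ≠ 2)
    (hsp : s ≠ p) :
    (2 * s ∈ Set.range (orderOf : Cfsg.POmega F (Cfsg.quadFormOdd n F) → ℕ)) ↔
      (2 * s ∈ Set.range (orderOf : Cfsg.PSp n F → ℕ)) := by
  have h2 := Cfsg.Agent.Lib.Helper14.two_ne_zero_of_card_odd hodd
  obtain ⟨k, hk⟩ : ∃ k, k = orderOf ((Fintype.card F : ℕ) : ZMod s) := ⟨_, rfl⟩
  obtain ⟨ηk, hη⟩ := exists_eta k
  rw [hBridge hodd n hn (2 * s), hPSp2 hodd n (by omega) s hs hs2]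
  constructor
  · intro h
    have hcrit := hD2 hodd p n (by omega) s k ηk hs hs2 hsp hk hη h
    rcases hcrit with h1 | ⟨h1, h3 | h3⟩
    · exact hSpA hodd p n s k ηk (by omega) hs hs2 hsp hk hη h1
    · obtain ⟨hq, hko⟩ := h3
      have hkn : k ≤ n := by
        rcases hη with ⟨_, e⟩ | ⟨he, _⟩
        · omega
        · exact absurd he (Nat.not_even_iff_odd.mpr hko)
      exact hSpN1 p n s k hs hs2 hsp hk hkn hq
    · obtain ⟨hq, hke, hno⟩ := h3
      have hkn : 2 * n = k := by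
        rcases hη with ⟨ho, _⟩ | ⟨_, e⟩
        · exact absurd hke (Nat.not_even_iff_odd.mpr ho)
        · omega
      exact hSpN3 p n s (by omega) hs hs2 hsp (hkn.trans hk) hno hq
  · rintro ⟨S, hS1, hS2, hS3⟩
    rcases hS1 with hS1 | hS1
    · have h1 := hSpInvNec hodd p n s k ηk hs hs2 hsp hk hη S hS1 hS2 hS3
      exact om_of_eta hGlue hGen hSum hOne hRot hBlk hodd p n s k ηk (by omega) hs hs2 hsp hk
        hη h1
    · have hB := hSpJ hodd n S s (by rw [← pow_add, ← two_mul]; exact hS1)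
      have hB' : Blk F (2 * n + 1) (fun j => S.1 ^ j = 1) := blk_pad hSum hOne h2 hB 1
      obtain ⟨g, hg, hgj⟩ := hGen hodd n _ hB'
      refine (hGlue hodd n (2 * s)).2.2 ⟨g, hg, fun j => ?_⟩
      rw [← pow_two, ← pow_mul, hgj]
      exact hOrd4 h2 S.1 s hs hs2 hS1 hS2 j

include hBridge hGlue hPSp2 hOrd4 hGen hSum hOne hRot hUni hBlk hOtoSp hSptoBlk hORPnec hSp2p
  hSpInvNec hSpJ hD2 hSpA hSpN1 hSpN3 in
/-- S2474 from the packages. -/
theorem s2474_of {F : Type u} [Field F] [Fintype F] (hodd : Odd (Fintype.card F)) (n : ℕ)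
    (hn : 3 ≤ n) (r s : ℕ) (hr : r.Prime) (hs : s.Prime) (hrs : r ≠ s) :
    (r * s ∈ Set.range (orderOf : Cfsg.POmega F (Cfsg.quadFormOdd n F) → ℕ)) ↔
      (r * s ∈ Set.range (orderOf : Cfsg.PSp n F → ℕ)) := by
  obtain ⟨p, hpc⟩ := CharP.exists F
  haveI := hpc
  have hp : p.Prime := CharP.char_is_prime F p
  haveI : Fact p.Prime := ⟨hp⟩
  have h2 := Cfsg.Agent.Lib.Helper14.two_ne_zero_of_card_odd hodd
  have hp2 : p ≠ 2 := by
    rintro rfl
    exact h2 (by exact_mod_cast CharP.cast_eq_zero F 2)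
  have hC := caseC hBridge hGlue hPSp2 hGen hSum hOne hRot hUni hSp2p hodd p hp2 n hn
  have hD := caseD hBridge hGlue hPSp2 hOrd4 hGen hSum hOne hRot hBlk hSpInvNec hSpJ hD2 hSpA
    hSpN1 hSpN3 hodd p n hn
  have hB := caseB hBridge hGlue hGen hSum hOne hUni hBlk hORPnec hodd p hp2 n hn
  by_cases hr2 : r = 2
  · rw [hr2]
    by_cases hsp : s = p
    · rw [hsp]
      exact iff_of_true hC.1 hC.2
    · exact hD s hs (fun h => hrs (hr2.trans h.symm)) hsp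
  · by_cases hs2 : s = 2
    · rw [hs2, mul_comm]
      by_cases hrp : r = p
      · rw [hrp]
        exact iff_of_true hC.1 hC.2
      · exact hD r hr hr2 hrp
    · by_cases hrp : r = p
      · rw [hrp, mul_comm]
        exact hB s hs hs2 (fun h => hrs (hrp.trans h.symm))
      · by_cases hsp : s = p
        · rw [hsp]
          exact hB r hr hr2 hrp
        · have hodd_rs : Odd (r * s) := (hr.odd_of_ne_two hr2).mul (hs.odd_of_ne_two hs2)
          have hcop : (r * s).Coprime p :=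
            Nat.Coprime.mul_left ((Nat.coprime_primes hr hp).mpr hrp)
              ((Nat.coprime_primes hs hp).mpr hsp)
          exact caseA hBridge hGlue hGen hSum hOne hOtoSp hSptoBlk hodd p n hn (r * s) hodd_rs
            hcop

end

end Cfsg.Agent.Lib.Helper8.PG
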