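import Mathlib
import Cfsg.Agent.Lib.Helper8.PG.Defs
import Cfsg.Agent.Lib.Helper14.Isom
import Cfsg.Agent.Lib.Helper14.Forms
import Cfsg.Agent.Lib.Helper14.OmegaInv

/-!
# PG project: package [D2] (necessity on the orthogonal side, glue)
-/

set_option autoImplicit false

namespace Cfsg.Agent.Lib.Helper8.PG

open Matrix Polynomial Cfsg.Agent.Lib.Helper14

universe u

theorem pkgD2 : PkgD2.{u} := by
  intro hFixA hFixB hZStr hNegRefl hCong hArith hSqSign F _ _ hodd p _ _ n hn s k ηk hs hs2 hsp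
    hk hη hOm
  obtain ⟨g, hgΩ, hgord⟩ := hOm
  by_cases hle : ηk ≤ n - 1
  · exact Or.inl hle
  have hnη : n ≤ ηk := by omega
  have h2 : (2 : F) ≠ 0 := two_ne_zero_of_card_odd hodd
  have hpp : p.Prime := Fact.out
  have hsF : (s : F) ≠ 0 := by
    intro h
    rw [CharP.cast_eq_zero_iff F p] at h
    exact hsp ((Nat.prime_dvd_prime_iff_eq hpp hs).mp h).symm
  have hsq : ¬ s ∣ Fintype.card F := by
    obtain ⟨f, -, hf⟩ := FiniteField.card F p
    rw [hf]
    intro h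
    exact hsp ((Nat.prime_dvd_prime_iff_eq hs hpp).mp (hs.dvd_of_dvd_pow h))
  obtain ⟨G, hGdef⟩ : ∃ G : Matrix (OI n) (OI n) F,
      G = ((g : Matrix.GeneralLinearGroup (OI n) F) : Matrix (OI n) (OI n) F) := ⟨_, rfl⟩
  have hcoe : ∀ (x : ↥(Cfsg.isometryGroup F (Cfsg.quadFormOdd n F))) (j : ℕ),
      (((x ^ j : ↥(Cfsg.isometryGroup F (Cfsg.quadFormOdd n F))) :
        Matrix.GeneralLinearGroup (OI n) F) : Matrix (OI n) (OI n) F) =
      ((x : Matrix.GeneralLinearGroup (OI n) F) : Matrix (OI n) (OI n) F) ^ j := by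
    intro x j
    simp
  have hGpow : ∀ j : ℕ, G ^ j = 1 ↔ 2 * s ∣ j := by
    intro j
    rw [← hgord, orderOf_dvd_iff_pow_eq_one, hGdef, ← hcoe]
    constructor
    · intro h
      apply isom_ext
      rw [h]
      rfl
    · intro h
      rw [h]
      rfl
  have hGiso : ∀ v, Cfsg.quadFormOdd n F (G *ᵥ v) = Cfsg.quadFormOdd n F v := by
    intro v
    rw [hGdef]
    exact isom_preserves g v
  have hpowiso : ∀ (j : ℕ) v,
      Cfsg.quadFormOdd n F ((G ^ j) *ᵥ v) = Cfsg.quadFormOdd n F v := by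
    intro j
    induction j with
    | zero => intro v; simp
    | succ j ih => intro v; rw [pow_succ, ← mulVec_mulVec, ih, hGiso]
  have ht_s : (G ^ 2) ^ s = 1 := by
    rw [← pow_mul]
    exact (hGpow _).mpr (dvd_refl _)
  have ht_ne : G ^ 2 ≠ 1 := by
    intro h
    have h3 := Nat.le_of_dvd (by norm_num) ((hGpow 2).mp h)
    have h4 := hs.two_le
    have h5 : s ≠ 2 := hs2
    omega
  obtain ⟨hηn, hroot⟩ := hFixA hodd p n s k ηk hs hs2 hsp hk hη (G ^ 2) (hpowiso 2) ht_s ht_ne hnη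
  have hQnd := oddQF_nondegenerate n F h2
  have hQcoe : ∀ v, (oddQF n F) v = Cfsg.quadFormOdd n F v := fun v => by rw [oddQF_coe]
  have hfix : ∀ t' : Matrix (OI n) (OI n) F, (∀ v, (oddQF n F) (t' *ᵥ v) = (oddQF n F) v) →
      t' ^ s = 1 → t' ≠ 1 → ∃ v₁ : OI n → F, (oddQF n F) v₁ ≠ 0 ∧ t' *ᵥ v₁ = v₁ ∧
        ∀ w, t' *ᵥ w = w → ∃ c : F, w = c • v₁ := by
    intro t' ht' hts htne
    have ht'' : ∀ v, Cfsg.quadFormOdd n F (t' *ᵥ v) = Cfsg.quadFormOdd n F v := by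
      intro v
      rw [← hQcoe, ← hQcoe]
      exact ht' v
    obtain ⟨-, hroot'⟩ := hFixA hodd p n s k ηk hs hs2 hsp hk hη t' ht'' hts htne hnη
    exact hFixB h2 (oddQF n F) hQnd t' ht' s hsF hts hroot'
  have hpowiso' : ∀ (j : ℕ) v, (oddQF n F) ((G ^ j) *ᵥ v) = (oddQF n F) v := by
    intro j v
    rw [hQcoe, hQcoe]
    exact hpowiso j v
  obtain ⟨v₀, hv₀Q, hv₀fix, hv₀line⟩ := hfix (G ^ 2) (hpowiso' 2) ht_s ht_ne
  have hz2 : G ^ s * G ^ s = 1 := by
    rw [← pow_add, ← two_mul]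
    exact (hGpow _).mpr (dvd_refl _)
  have hzne : G ^ s ≠ 1 := by
    intro h
    have h3 := Nat.le_of_dvd hs.pos ((hGpow s).mp h)
    have h4 := hs.pos
    omega
  have hmem : g ^ s ∈ Cfsg.Omega F (Cfsg.quadFormOdd n F) := Subgroup.pow_mem _ hgΩ s
  have hzdet : (G ^ s).det = 1 := by
    have h1 := Abelianization.commutator_subset_ker
      ((Matrix.GeneralLinearGroup.det (n := OI n) (R := F)).comp
        (Subgroup.subtype (Cfsg.isometryGroup F (Cfsg.quadFormOdd n F)))) hmem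
    rw [MonoidHom.mem_ker] at h1
    have h3 := congrArg (fun u : Fˣ => (u : F)) h1
    simp only [MonoidHom.comp_apply, Subgroup.coe_subtype,
      Matrix.GeneralLinearGroup.val_det_apply, Units.val_one] at h3
    rw [hcoe, ← hGdef] at h3
    exact h3
  have hcomm : G ^ s * G ^ 2 = G ^ 2 * G ^ s := by
    rw [← pow_add, ← pow_add, add_comm]
  have hcard : Fintype.card (OI n) = 2 * n + 1 := by
    simp [OI]
    omega
  obtain ⟨hzv, hzw⟩ := hZStr h2 (oddQF n F) hQnd (by rw [hcard]; exact ⟨n, rfl⟩)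
    (by rw [hcard]; omega) s hfix (G ^ s) (G ^ 2) (hpowiso' s) (hpowiso' 2) hz2 hzne hzdet hcomm
    ht_s ht_ne v₀ hv₀Q hv₀fix
  have hv₀Q' : Cfsg.quadFormOdd n F v₀ ≠ 0 := by
    rw [← hQcoe]
    exact hv₀Q
  have hneg := hNegRefl hodd n (g ^ s) hmem v₀ hv₀Q' (by rw [hcoe, ← hGdef]; exact hzv)
    (by
      intro w hw
      rw [hcoe, ← hGdef]
      apply hzw
      rw [oddQF_coe]
      exact hw)
  have hsign := (hSqSign hodd n _ hv₀Q').mp hneg
  obtain ⟨hc1, hc2⟩ := hCong hodd n s hs (G ^ 2) (hpowiso 2) ht_s v₀ hv₀Q' hv₀fix hv₀line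
  have hη' : Eta k n := by
    rw [← hηn]
    exact hη
  exact Or.inr ⟨hηn, hArith (Fintype.card F) s k n (IsSquare (Cfsg.quadFormOdd n F v₀)) hs hs2
    hsq hodd hk hη' hc1 hc2 hsign⟩

end Cfsg.Agent.Lib.Helper8.PG
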