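import Mathlib
import Cfsg.Agent.Lib.Helper8.PG.Defs
import Cfsg.Agent.Lib.Helper14.Forms
import Cfsg.Agent.Lib.Helper14.OmegaInv
import Cfsg.Agent.Lib.Helper14.OCls.Asm
import Cfsg.Agent.Lib.Helper40.PSpRP
import Cfsg.Agent.Lib.Helper61.OCls.Dual

/-!
# PG project: package [FIXA]
-/

set_option autoImplicit false

namespace Cfsg.Agent.Lib.Helper8.PG

open Matrix Polynomial Cfsg.Agent.Lib.Helper14 Cfsg.Agent.Lib.Helper40.DualPoly
  Cfsg.Agent.Lib.Helper40.PrimeOrderGL Cfsg.Agent.Lib.Helper40.GUPrimeOrder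
  Cfsg.Agent.Lib.Helper40.PSpRP Cfsg.Agent.Lib.Helper40 Cfsg.Agent.Lib.Helper40.SpExist

universe u

theorem pkgFixA : PkgFixA.{u} := by
  intro F _ _ hodd p _ _ n s k ηk hs hs2 hsp hk hη t ht hts htne hnη
  classical
  have h2 : (2 : F) ≠ 0 := two_ne_zero_of_card_odd hodd
  obtain ⟨S, dg, hS, hSne, hsF, hk0, hdg, hdd, hfix⟩ := exists_sp_data p s k hs hs2 hsp hk
  have hcard : Fintype.card (OI n) = 2 * n + 1 := by
    simp [OI]
    omega
  obtain ⟨a, ha, hχ⟩ := charpoly_eq_chi' hS t hts (2 * n + 1) hcard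
  have ha0 : a ≠ 0 := by
    rintro rfl
    apply htne
    apply eq_one_of_charpoly' t s hsF hts (2 * n + 1) hcard
    rw [hχ]
    simp [Cfsg.Agent.Lib.Helper40.PrimeOrderGL.chi]
  have hinv : ∀ π, a (dg π) = a π := by
    have h1 := Cfsg.Agent.Lib.Helper61.OCls.pkgDual (oddQF n F) (oddQF_nondegenerate n F h2) t
      (by intro v; rw [oddQF_coe]; exact ht v)
    rw [hχ, dual_chi (RingHom.id F) dg hdd hdg] at h1
    have h3 := chi_inj hS _ _ _ _ h1
    intro π
    exact congrFun h3 π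
  obtain ⟨π₀, hπ₀⟩ : ∃ π₀, a π₀ ≠ 0 := by
    by_contra hcon
    push Not at hcon
    exact ha0 (funext hcon)
  have hsum1 : a π₀ ≤ ∑ π, a π :=
    Finset.single_le_sum (fun _ _ => Nat.zero_le _) (Finset.mem_univ π₀)
  have hrm : t.charpoly.rootMultiplicity 1 = 2 * n + 1 - k * ∑ π, a π := by
    rw [hχ]
    unfold Cfsg.Agent.Lib.Helper40.PrimeOrderGL.chi
    have hne0 : (∏ π : S, π.1 ^ a π) ≠ 0 :=
      Finset.prod_ne_zero_iff.mpr (fun π _ => pow_ne_zero _ (hS.monic π π.2).ne_zero)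
    have hpow0 : ((X - C (1 : F)) ^ (2 * n + 1 - k * ∑ π, a π)) ≠ 0 :=
      pow_ne_zero _ (X_sub_C_ne_zero 1)
    rw [rootMultiplicity_mul (mul_ne_zero hpow0 hne0), rootMultiplicity_X_sub_C_pow,
      rootMultiplicity_eq_zero, add_zero]
    rw [IsRoot, eval_prod]
    apply Finset.prod_ne_zero_iff.mpr
    intro π _
    rw [eval_pow]
    exact pow_ne_zero _ (eval_one_ne hS π.1 π.2)
  rw [hrm]
  rcases hη with ⟨hko, hηk⟩ | ⟨hke, hηk⟩
  · have hnofix : ∀ π, dg π ≠ π :=
      fun π h => (Nat.not_even_iff_odd.mpr hko) ((hfix π).mp h)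
    obtain ⟨c, hc⟩ := Cfsg.Agent.Lib.Helper14.OCls.even_sum_of_invol dg hdd hnofix a hinv
    have h3 : k * (c + c) ≤ 2 * n + 1 := by
      rw [← hc]
      exact ha
    have hc1 : 1 ≤ c := by omega
    have h4 : k * c ≤ n := by nlinarith
    have h5 : k ≤ k * c := Nat.le_mul_of_pos_right k hc1
    have hkn : k = n := by omega
    have hc2 : c = 1 := by
      subst hkn
      have h6 : k * c ≤ k * 1 := by omega
      have h7 := Nat.le_of_mul_le_mul_left h6 hk0
      omega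
    subst hc2
    rw [hc]
    constructor
    · omega
    · rw [hkn]
      omega
  · have h3 : k ≤ k * ∑ π, a π := Nat.le_mul_of_pos_right k (by omega)
    have hkn : k = 2 * n := by
      obtain ⟨c, hc⟩ := hke
      omega
    have hsum : ∑ π, a π = 1 := by
      have h6 : k * ∑ π, a π < k * 2 := by omega
      have h7 := Nat.lt_of_mul_lt_mul_left h6
      omega
    rw [hsum]
    constructor
    · omega
    · omega

end Cfsg.Agent.Lib.Helper8.PG
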