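import Mathlib
import Cfsg.Agent.Lib.Helper8.PG.Asm
import Cfsg.Agent.Lib.Helper8.PG.D2
import Cfsg.Agent.Lib.Helper8.PG.FixA
import Cfsg.Agent.Lib.Helper43.PG.Bridge
import Cfsg.Agent.Lib.Helper43.PG.Sq
import Cfsg.Agent.Lib.Helper43.PG.Glue
import Cfsg.Agent.Lib.Helper86.PG.Ord
import Cfsg.Agent.Lib.Helper86.PG.PSp2
import Cfsg.Agent.Lib.Helper86.PG.Sp2p
import Cfsg.Agent.Lib.Helper52.PG.One
import Cfsg.Agent.Lib.Helper52.PG.Rot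
import Cfsg.Agent.Lib.Helper52.PG.Uni
import Cfsg.Agent.Lib.Helper52.PG.Sum
import Cfsg.Agent.Lib.Helper20.PG.OtoSp
import Cfsg.Agent.Lib.Helper20.PG.SptoBlk
import Cfsg.Agent.Lib.Helper15.PG.Ord4
import Cfsg.Agent.Lib.Helper15.PG.GenEx
import Cfsg.Agent.Lib.Helper15.PG.ORPnec
import Cfsg.Agent.Lib.Helper59.PG.FixB
import Cfsg.Agent.Lib.Helper59.PG.ZStr
import Cfsg.Agent.Lib.Helper73.PG.Arith2
import Cfsg.Agent.Lib.Helper73.PG.SqSign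
import Cfsg.Agent.Lib.Helper73.PG.Level
import Cfsg.Agent.Lib.Helper94.PG.SpJ
import Cfsg.Agent.Lib.Helper24.PG.Poly3
import Cfsg.Agent.Lib.Helper24.PG.SpN3
import Cfsg.Agent.Lib.Helper79.PG.SpA
import Cfsg.Agent.Lib.Helper38.PG.Cong
import Cfsg.Agent.Lib.Helper11.PG.Blk
import Cfsg.Agent.Lib.Helper11.PG.SpInvNec
import Cfsg.Agent.Lib.Helper25.PG.NegRefl

/-!
# Prime graphs of `PΩ_{2n+1}(q)` and `PSp_{2n}(q)` coincide: all packages but `PkgSpN1`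
-/

set_option autoImplicit false

namespace Cfsg.Agent.Lib.Helper8.PG

universe u

theorem d2 : D2.{u} :=
  pkgD2 pkgFixA Cfsg.Agent.Lib.Helper59.PG.pkgFixB Cfsg.Agent.Lib.Helper59.PG.pkgZStr
    Cfsg.Agent.Lib.Helper25.PG.pkgNegRefl
    (Cfsg.Agent.Lib.Helper38.PG.pkgCong Cfsg.Agent.Lib.Helper73.PG.pkgLevel)
    Cfsg.Agent.Lib.Helper73.PG.pkgArith2 Cfsg.Agent.Lib.Helper73.PG.pkgSqSign

theorem glue : Glue.{u} := Cfsg.Agent.Lib.Helper43.PG.pkgGlue Cfsg.Agent.Lib.Helper43.PG.pkgSq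

/-- S2474, from the one remaining package. -/
theorem s2474_of_spn1 (hSpN1 : PkgSpN1.{u}) {F : Type u} [Field F] [Fintype F] (hodd : Odd (Fintype.card F)) (n : ℕ)
    (hn : 3 ≤ n) (r s : ℕ) (hr : r.Prime) (hs : s.Prime) (hrs : r ≠ s) :
    (r * s ∈ Set.range (orderOf : Cfsg.POmega F (Cfsg.quadFormOdd n F) → ℕ)) ↔
      (r * s ∈ Set.range (orderOf : Cfsg.PSp n F → ℕ)) :=
  s2474_of Cfsg.Agent.Lib.Helper43.PG.pkgBridge glue Cfsg.Agent.Lib.Helper86.PG.pkgPSp2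
    Cfsg.Agent.Lib.Helper15.PG.pkgOrd4 Cfsg.Agent.Lib.Helper15.PG.pkgGenEx
    Cfsg.Agent.Lib.Helper52.PG.pkgSum Cfsg.Agent.Lib.Helper52.PG.pkgOne
    Cfsg.Agent.Lib.Helper52.PG.pkgRot Cfsg.Agent.Lib.Helper52.PG.pkgUni
    Cfsg.Agent.Lib.Helper11.PG.pkgBlk
    (Cfsg.Agent.Lib.Helper20.PG.pkgOtoSp Cfsg.Agent.Lib.Helper86.PG.pkgOrd)
    (Cfsg.Agent.Lib.Helper20.PG.pkgSptoBlk Cfsg.Agent.Lib.Helper86.PG.pkgOrd)
    Cfsg.Agent.Lib.Helper15.PG.pkgORPnec Cfsg.Agent.Lib.Helper86.PG.pkgSp2p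
    Cfsg.Agent.Lib.Helper11.PG.pkgSpInvNec Cfsg.Agent.Lib.Helper94.PG.pkgSpJ d2
    Cfsg.Agent.Lib.Helper79.PG.pkgSpA hSpN1
    (Cfsg.Agent.Lib.Helper24.PG.pkgSpN3 Cfsg.Agent.Lib.Helper24.PG.pkgPoly3) hodd n hn r s hr hs
    hrs

end Cfsg.Agent.Lib.Helper8.PG
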