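import Mathlib
import Cfsg.Agent.Lib.Helper8.PG.Defs
import Cfsg.Agent.Lib.Helper40.PSpRP
import Cfsg.Agent.Lib.Helper40.SpPrimeOrder
import Cfsg.Agent.Lib.Helper52.PG.Sum

/-!
# [SPN1] `q ≡ 1 (mod 4)`, `k ≤ n`: an element of `Sp_{2n}(q)` of order `2 s` modulo `± 1`

`S = diag(i A, (i A)⁻ᵀ)` with `i ^ 2 = -1` and `A ∈ GL_n(q)` of order `s`.
-/

set_option autoImplicit false

namespace Cfsg.Agent.Lib.Helper8.PG

open Matrix Polynomial

universe u

theorem pkgSpN1 : PkgSpN1.{u} := by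
  intro F _ _ p _ _ n s k hs hs2 hsp hk hkn hq
  classical
  obtain ⟨i, hi⟩ : ∃ i : F, i * i = -1 := by
    have h := (FiniteField.isSquare_neg_one_iff (F := F)).2 (by omega)
    obtain ⟨i, hi⟩ := h
    exact ⟨i, hi.symm⟩
  have h2F : (2 : F) ≠ 0 := by
    apply Ring.two_ne_zero
    intro h
    have := FiniteField.even_card_of_char_two h
    omega
  obtain ⟨S, dg, hS, hne, hsF, hk0, -, -, -⟩ :=
    Cfsg.Agent.Lib.Helper40.PSpRP.exists_sp_data (F := F) p s k hs hs2 hsp hk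
  obtain ⟨π₀, hπ₀⟩ := hne
  let a : S → ℕ := fun π => if π = ⟨π₀, hπ₀⟩ then 1 else 0
  have hsum : ∑ π, a π = 1 := by simp [a]
  have ha : k * ∑ π, a π ≤ n := by rw [hsum]; omega
  obtain ⟨g, hg, hχ⟩ :=
    Cfsg.Agent.Lib.Helper40.PrimeOrderGL.exists_GL_chi (n := n) p hS hs.pos a ha
  obtain ⟨A, hAdef⟩ : ∃ A : Matrix (Fin n) (Fin n) F, A = (g : Matrix (Fin n) (Fin n) F) :=
    ⟨_, rfl⟩
  rw [← hAdef] at hχ
  have hAs : A ^ s = 1 := by
    have := congrArg (fun x : GL (Fin n) F => (x : Matrix (Fin n) (Fin n) F)) hg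
    rw [hAdef]
    simpa using this
  have hA1 : A ≠ 1 := by
    intro h1
    rw [h1, Matrix.charpoly_one] at hχ
    have hdvd : π₀ ∣ Cfsg.Agent.Lib.Helper40.PrimeOrderGL.chi S a (n - k * ∑ π, a π) := by
      unfold Cfsg.Agent.Lib.Helper40.PrimeOrderGL.chi
      apply dvd_mul_of_dvd_right
      have h3 : π₀ ∣ (⟨π₀, hπ₀⟩ : S).1 ^ a ⟨π₀, hπ₀⟩ := by simp [a]
      exact h3.trans (Finset.dvd_prod_of_mem _ (Finset.mem_univ _))
    rw [← hχ] at hdvd
    have hd1 : π₀ ∣ (X - 1 : F[X]) := (hS.irred π₀ hπ₀).prime.dvd_of_dvd_pow hdvd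
    have hX : Irreducible (X - C 1 : F[X]) := irreducible_X_sub_C 1
    have h2 := eq_of_monic_of_associated (hS.monic π₀ hπ₀) (monic_X_sub_C 1)
      ((hS.irred π₀ hπ₀).associated_of_dvd hX (by simpa using hd1))
    exact hS.notMem (h2 ▸ hπ₀)
  obtain ⟨m, hm⟩ := hs.odd_of_ne_two hs2
  have hn0 : 0 < n := by omega
  obtain ⟨B, hB⟩ : ∃ B : Matrix (Fin n) (Fin n) F, B = A ^ (s - 1) := ⟨_, rfl⟩
  have hAB : A * B = 1 := by
    rw [hB, ← pow_succ', show s - 1 + 1 = s by omega, hAs]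
  obtain ⟨P, hP⟩ : ∃ P : Matrix (Fin n) (Fin n) F, P = i • A := ⟨_, rfl⟩
  obtain ⟨R, hR⟩ : ∃ R : Matrix (Fin n) (Fin n) F, R = ((-i) • B)ᵀ := ⟨_, rfl⟩
  have hii : i * -i = 1 := by rw [mul_neg, hi, neg_neg]
  have hPR : P * Rᵀ = 1 := by
    rw [hP, hR, Matrix.transpose_transpose, Matrix.smul_mul, Matrix.mul_smul, smul_smul, hAB,
      hii, one_smul]
  have hRP : R * Pᵀ = 1 := by
    have h3 := congrArg Matrix.transpose hPR
    rwa [Matrix.transpose_mul, Matrix.transpose_transpose, Matrix.transpose_one] at h3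
  have hmem : Matrix.fromBlocks P 0 0 R ∈ Matrix.symplecticGroup (Fin n) F := by
    rw [SymplecticGroup.mem_iff]
    unfold Matrix.J
    rw [Matrix.fromBlocks_transpose, Matrix.fromBlocks_multiply, Matrix.fromBlocks_multiply]
    simp [hPR, hRP]
  have hpow : ∀ j : ℕ,
      (Matrix.fromBlocks P 0 0 R) ^ j = Matrix.fromBlocks (P ^ j) 0 0 (R ^ j) :=
    fun j => Cfsg.Agent.Lib.Helper52.PG.fromBlocks_diag_pow P R j
  have hPj : ∀ j : ℕ, P ^ j = i ^ j • A ^ j := fun j => by rw [hP, _root_.smul_pow]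
  have hRj : ∀ j : ℕ, R ^ j = ((-i) ^ j • B ^ j)ᵀ := fun j => by
    rw [hR, ← Matrix.transpose_pow, _root_.smul_pow]
  have hi2 : i ^ 2 = -1 := by rw [pow_two, hi]
  have hi2s : i ^ (2 * s) = -1 := by
    rw [pow_mul, hi2, hm, pow_succ, pow_mul]; simp
  have hmi2s : (-i) ^ (2 * s) = -1 := by
    rw [pow_mul, neg_pow_two, hi2, hm, pow_succ, pow_mul]; simp
  have hA2s : A ^ (2 * s) = 1 := by rw [mul_comm, pow_mul, hAs, one_pow]
  have hB2s : B ^ (2 * s) = 1 := by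
    rw [hB, ← pow_mul, show (s - 1) * (2 * s) = s * ((s - 1) * 2) by ring, pow_mul, hAs, one_pow]
  have hneg1 : (Matrix.fromBlocks (-1 : Matrix (Fin n) (Fin n) F) 0 0
      (-1 : Matrix (Fin n) (Fin n) F)) = -1 := by
    rw [← Matrix.fromBlocks_one, Matrix.fromBlocks_neg]; simp
  have hS2s : (Matrix.fromBlocks P 0 0 R) ^ (2 * s) = -1 := by
    rw [hpow, hPj, hRj, hi2s, hmi2s, hA2s, hB2s, ← hneg1]
    simp
  have hne1 : (-1 : Matrix (Fin n ⊕ Fin n) (Fin n ⊕ Fin n) F) ≠ 1 := by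
    intro h
    have h3 : (-1 : Matrix (Fin n ⊕ Fin n) (Fin n ⊕ Fin n) F) (Sum.inl ⟨0, hn0⟩)
        (Sum.inl ⟨0, hn0⟩) = (1 : Matrix (Fin n ⊕ Fin n) (Fin n ⊕ Fin n) F) (Sum.inl ⟨0, hn0⟩)
        (Sum.inl ⟨0, hn0⟩) := by rw [h]
    rw [Matrix.neg_apply, Matrix.one_apply_eq] at h3
    apply h2F
    linear_combination (-1 : F) * h3
  refine ⟨⟨Matrix.fromBlocks P 0 0 R, hmem⟩, Or.inr hS2s, ?_, ?_⟩
  · rintro (h | h)
    · apply hne1
      change Matrix.fromBlocks P 0 0 R ^ 2 = 1 at h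
      rw [← hS2s, pow_mul, h, one_pow]
    · change Matrix.fromBlocks P 0 0 R ^ 2 = -1 at h
      rw [hpow, ← hneg1, Matrix.fromBlocks_inj] at h
      have hP2 := h.1
      rw [hPj, hi2] at hP2
      have hA2 : A ^ 2 = 1 := by
        have h4 : -(A ^ 2) = -1 := by simpa using hP2
        exact neg_injective h4
      apply hA1
      have h5 : A ^ s = A := by rw [hm, pow_succ, pow_mul, hA2, one_pow, one_mul]
      rw [← h5, hAs]
  · rintro (h | h)
    · apply hne1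
      change Matrix.fromBlocks P 0 0 R ^ s = 1 at h
      rw [← hS2s, mul_comm 2 s, pow_mul, h, one_pow]
    · apply hne1
      change Matrix.fromBlocks P 0 0 R ^ s = -1 at h
      rw [← hS2s, mul_comm 2 s, pow_mul, h]
      simp

end Cfsg.Agent.Lib.Helper8.PG
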