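import Mathlib
import Cfsg.Agent.Lib.Helper8.PG.Pre
import Cfsg.Agent.Lib.Helper8.PG.SpN1

/-!
# Prime graphs of `PΩ_{2n+1}(q)` and `PSp_{2n}(q)` coincide: all packages put together
-/

set_option autoImplicit false

namespace Cfsg.Agent.Lib.Helper8.PG

universe u

/-- S2474. -/
theorem s2474 {F : Type u} [Field F] [Fintype F] (hodd : Odd (Fintype.card F)) (n : ℕ)
    (hn : 3 ≤ n) (r s : ℕ) (hr : r.Prime) (hs : s.Prime) (hrs : r ≠ s) :
    (r * s ∈ Set.range (orderOf : Cfsg.POmega F (Cfsg.quadFormOdd n F) → ℕ)) ↔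
      (r * s ∈ Set.range (orderOf : Cfsg.PSp n F → ℕ)) :=
  s2474_of_spn1 pkgSpN1 hodd n hn r s hr hs hrs

end Cfsg.Agent.Lib.Helper8.PG
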