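import Mathlib
import Cfsg.Agent.Lib.Helper8.PG.Defs
import Cfsg.Agent.Lib.Helper14.OmegaInv

/-!
# PG project: package [SPJ]
-/

set_option autoImplicit false

namespace Cfsg.Agent.Lib.Helper8.PG

open Matrix Polynomial Cfsg.Agent.Lib.Helper14

universe u

theorem pkgSpJ : PkgSpJ.{u} := by
  intro F _ _ hodd n S e hj
  classical
  have h2 : (2 : F) ≠ 0 := two_ne_zero_of_card_odd hodd
  obtain ⟨M, hM⟩ : ∃ M : Matrix (Fin n ⊕ Fin n) (Fin n ⊕ Fin n) F, M = S.1 := ⟨_, rfl⟩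
  rw [← hM] at hj
  obtain ⟨j, hjdef⟩ : ∃ j : Matrix (Fin n ⊕ Fin n) (Fin n ⊕ Fin n) F, j = M ^ e := ⟨_, rfl⟩
  rw [← hjdef] at hj
  obtain ⟨J, hJ⟩ : ∃ J : Matrix (Fin n ⊕ Fin n) (Fin n ⊕ Fin n) F, J = Matrix.J (Fin n) F :=
    ⟨_, rfl⟩
  have hJJ : J * J = -1 := by
    rw [hJ]
    exact Matrix.J_squared (Fin n) F
  have hJT : Jᵀ = -J := by
    rw [hJ]
    exact Matrix.J_transpose (Fin n) F
  have hS1 : Mᵀ * J * M = J := by
    rw [hM, hJ]
    exact SymplecticGroup.mem_iff'.mp S.2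
  have hjS : jᵀ * J * j = J := by
    have h3 : (S ^ e).1 = j := by
      rw [hjdef, hM]
      rfl
    rw [← h3, hJ]
    exact SymplecticGroup.mem_iff'.mp (S ^ e).2
  have hjM : j * M = M * j := by
    rw [hjdef, ← pow_succ, ← pow_succ']
  obtain ⟨w, hw⟩ : ∃ w : Matrix (Fin n ⊕ Fin n) (Fin n ⊕ Fin n) F, w = J * j := ⟨_, rfl⟩
  have hwT : wᵀ = w := by
    have h1 : jᵀ * J = -(J * j) := by
      calc jᵀ * J = jᵀ * J * (j * (-j)) := by rw [mul_neg, hj, neg_neg, mul_one]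
        _ = (jᵀ * J * j) * (-j) := by simp only [mul_assoc]
        _ = -(J * j) := by rw [hjS, mul_neg]
    rw [hw, transpose_mul, hJT, mul_neg, h1, neg_neg]
  have hwinv : Mᵀ * w * M = w := by
    calc Mᵀ * w * M = Mᵀ * J * (j * M) := by rw [hw]; simp only [mul_assoc]
      _ = (Mᵀ * J * M) * j := by rw [hjM]; simp only [mul_assoc]
      _ = w := by rw [hS1, hw]
  have hww' : w * (j * J) = 1 := by
    calc w * (j * J) = J * (j * j) * J := by rw [hw]; simp only [mul_assoc]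
      _ = 1 := by rw [hj, mul_neg, mul_one, neg_mul, hJJ, neg_neg]
  have hw'w : (j * J) * w = 1 := mul_eq_one_comm.mp hww'
  have hQ : ∀ v : Fin n ⊕ Fin n → F, Matrix.toQuadraticForm' w v = v ⬝ᵥ w *ᵥ v := by
    intro v
    rw [Matrix.toQuadraticForm']
    rw [LinearMap.BilinMap.toQuadraticMap_apply, Matrix.toLinearMap₂'_apply']
  have hpolar : ∀ a b : Fin n ⊕ Fin n → F,
      QuadraticMap.polarBilin (Matrix.toQuadraticForm' w) a b = 2 * (a ⬝ᵥ w *ᵥ b) := by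
    intro a b
    rw [QuadraticMap.polarBilin_apply_apply, QuadraticMap.polar, hQ, hQ, hQ]
    have e : b ⬝ᵥ w *ᵥ a = a ⬝ᵥ w *ᵥ b := by
      conv_lhs => rw [← hwT]
      rw [Matrix.mulVec_transpose, Matrix.dotProduct_mulVec, dotProduct_comm,
        ← Matrix.dotProduct_mulVec]
    simp only [Matrix.mulVec_add, dotProduct_add, add_dotProduct]
    rw [e]
    ring
  refine ⟨Fin n ⊕ Fin n, inferInstance, inferInstance, Matrix.toQuadraticForm' w, M, ?_,
    ⟨?_, ?_⟩, ?_, ?_⟩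
  · rw [Fintype.card_sum, Fintype.card_fin]
    omega
  · intro a ha
    have h0 : a ᵥ* w = 0 := by
      funext i
      have h3 := ha (Pi.single i 1)
      rw [hpolar, Matrix.dotProduct_mulVec] at h3
      have h4 : (a ᵥ* w) ⬝ᵥ Pi.single i 1 = 0 := by
        rcases mul_eq_zero.mp h3 with h5 | h5
        · exact absurd h5 h2
        · exact h5
      simpa using h4
    have h5 : a ᵥ* (w * (j * J)) = 0 := by rw [← Matrix.vecMul_vecMul, h0, Matrix.zero_vecMul]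
    rwa [hww', Matrix.vecMul_one] at h5
  · intro b hb
    have h0 : w *ᵥ b = 0 := by
      funext i
      have h3 := hb (Pi.single i 1)
      rw [hpolar] at h3
      have h4 : Pi.single i 1 ⬝ᵥ w *ᵥ b = 0 := by
        rcases mul_eq_zero.mp h3 with h5 | h5
        · exact absurd h5 h2
        · exact h5
      simpa using h4
    have h5 : ((j * J) * w) *ᵥ b = 0 := by rw [← Matrix.mulVec_mulVec, h0, Matrix.mulVec_zero]
    rwa [hw'w, Matrix.one_mulVec] at h5
  · intro v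
    rw [hQ, hQ]
    have e : v ⬝ᵥ (Mᵀ * w * M) *ᵥ v = (M *ᵥ v) ⬝ᵥ w *ᵥ (M *ᵥ v) := by
      rw [← Matrix.mulVec_mulVec, ← Matrix.mulVec_mulVec, Matrix.dotProduct_mulVec,
        Matrix.vecMul_transpose]
    rw [← e, hwinv]
  · intro i
    rw [hM]

end Cfsg.Agent.Lib.Helper8.PG
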